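import Cfsg.Agent.H143.War.Xi
import Cfsg.Agent.H436.Ppd

/-!
# S2464 for `PSp_2n(q)`: field elements of order prime to 6 (helper311)

* `xi_of` : an element of order `N` of degree `s`, not conjugate to its inverse;
* `xi_odd` : `s` odd, prime order `r ≥ 5`;
* `xi_four` : `4 ∣ s`, `q` odd, order `r₁ r₂` prime to 6.
-/

set_option autoImplicit false
open Polynomial

namespace Cfsg.Agent.H311.TC6

open Cfsg.Agent.H143.War

section conj

variable {F K : Type*} [Field F] [Finite F] [Field K] [Algebra F K] [FiniteDimensional F K]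

theorem not_conj {s N : ℕ} (hs : Module.finrank F K = s) {u : Kˣ} (hu : orderOf u = N)
    (h : ∀ j, j < s → ¬ N ∣ Nat.card F ^ j + 1) : ¬ IsConjRoot F (u : K) (u⁻¹ : Kˣ) := by
  intro hc
  obtain ⟨j, hj, hj1⟩ := conj_pow hc
  rw [hs] at hj
  have h1 : (u⁻¹ : Kˣ) ^ Nat.card F ^ j = u := by
    apply Units.ext
    rw [Units.val_pow_eq_pow_val]
    exact hj1
  have h2 : u ^ (Nat.card F ^ j + 1) = 1 := by
    have h3 : u ^ Nat.card F ^ j = u⁻¹ := by
      rw [← inv_inj, inv_inv, ← inv_pow]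
      exact h1
    rw [pow_succ, h3, inv_mul_cancel]
  exact h j hj (hu ▸ orderOf_dvd_of_pow_eq_one h2)

theorem natDegree_eq {s N : ℕ} (hs : Module.finrank F K = s) {u : Kˣ} (hu : orderOf u = N)
    (h : ∀ k, 0 < k → k < s → ¬ N ∣ Nat.card F ^ k - 1) : (minpoly F (u : K)).natDegree = s := by
  have hfin : Finite K := Module.finite_of_finite F
  have hint : IsIntegral F (u : K) := .of_finite F _
  set L := IntermediateField.adjoin F {(u : K)} with hL
  have h1 : Module.finrank F L = (minpoly F (u : K)).natDegree := IntermediateField.adjoin.finrank hint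
  set d := (minpoly F (u : K)).natDegree with hd
  have h2 : d * Module.finrank L K = s := by
    rw [← h1, ← hs]
    exact Module.finrank_mul_finrank F L K
  have hs0 : 0 < s := hs ▸ Module.finrank_pos
  have hd0 : 0 < d := Nat.pos_of_ne_zero (by rintro h3; rw [h3, zero_mul] at h2; omega)
  have hds : d ≤ s := Nat.le_of_dvd hs0 (Dvd.intro _ h2)
  by_contra hne
  have hfinL : Finite L := Module.finite_of_finite F
  have hcard : Nat.card L = Nat.card F ^ d := by
    rw [Module.natCard_eq_pow_finrank (K := F) (V := L), h1]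
  have := Fintype.ofFinite L
  have hmem : (u : K) ∈ L := IntermediateField.mem_adjoin_simple_self F _
  have h5 : (⟨(u : K), hmem⟩ : L) ^ (Fintype.card L - 1) = 1 := by
    apply FiniteField.pow_card_sub_one_eq_one
    intro h6
    exact u.ne_zero (congrArg Subtype.val h6)
  have h6 : u ^ (Nat.card F ^ d - 1) = 1 := by
    apply Units.ext
    have h7 := congrArg Subtype.val h5
    rw [← Nat.card_eq_fintype_card, hcard] at h7
    simpa using h7
  exact h d hd0 (by omega) (hu ▸ orderOf_dvd_of_pow_eq_one h6)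

end conj

/-- an element of order `N` -/
theorem xi_of (F : Type) [Field F] [Finite F] {s N : ℕ} (hs : 0 < s) (hN : N ∣ Nat.card F ^ s - 1)
    (h1 : ∀ k, 0 < k → k < s → ¬ N ∣ Nat.card F ^ k - 1) (h2 : ∀ j, j < s → ¬ N ∣ Nat.card F ^ j + 1) :
    ∃ (K : Type) (_ : Field K) (_ : Algebra F K) (_ : FiniteDimensional F K) (ξ : K),
      (ξ ≠ 0 ∧ Module.finrank F K = s ∧ (minpoly F ξ).natDegree = s ∧ aeval ξ⁻¹ (minpoly F ξ) ≠ 0 ∧
        aeval ξ (minpoly F ξ⁻¹) ≠ 0) ∧ ξ ^ N = 1 := by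
  have : NeZero s := ⟨by omega⟩
  obtain ⟨p, hp⟩ := CharP.exists F
  have : Fact p.Prime := ⟨CharP.char_is_prime F p⟩
  have hq : 1 < Nat.card F := Finite.one_lt_card
  have hpos : 0 < Nat.card F ^ s - 1 := by
    have := Nat.one_lt_pow (by omega : s ≠ 0) hq
    omega
  have hfr : Module.finrank F (FiniteField.Extension F p s) = s := FiniteField.finrank_extension F p s
  refine ⟨FiniteField.Extension F p s, inferInstance, inferInstance, inferInstance, ?_⟩
  obtain ⟨u, hu⟩ := IsCyclic.exists_generator (α := (FiniteField.Extension F p s)ˣ)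
  have hcard : Nat.card (FiniteField.Extension F p s) = Nat.card F ^ s := FiniteField.natCard_extension F p s
  have hord : orderOf u = Nat.card F ^ s - 1 := by
    rw [orderOf_eq_card_of_forall_mem_zpowers hu, Nat.card_units, hcard]
  obtain ⟨t, ht⟩ := hN
  have ht0 : t ≠ 0 := by rintro rfl; rw [mul_zero] at ht; omega
  have hz : orderOf (u ^ t) = N := by
    rw [orderOf_pow_of_dvd ht0 (by rw [hord, ht]; exact dvd_mul_left _ _), hord, ht,
      Nat.mul_div_cancel _ (by omega)]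
  have key := not_conj hfr hz h2
  refine ⟨((u ^ t : _ˣ) : FiniteField.Extension F p s), ⟨(u ^ t).ne_zero, hfr, natDegree_eq hfr hz h1, ?_, ?_⟩, ?_⟩
  · intro h0
    apply key
    rw [← Units.val_inv_eq_inv_val] at h0
    exact minpoly.eq_of_irreducible_of_monic (minpoly.irreducible (Algebra.IsIntegral.isIntegral _)) h0
      (minpoly.monic (Algebra.IsIntegral.isIntegral _))
  · intro h0
    apply key
    rw [← Units.val_inv_eq_inv_val] at h0
    exact (minpoly.eq_of_irreducible_of_monic (minpoly.irreducible (Algebra.IsIntegral.isIntegral _)) h0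
      (minpoly.monic (Algebra.IsIntegral.isIntegral _))).symm
  · rw [← Units.val_pow_eq_pow_val, ← hz, pow_orderOf_eq_one, Units.val_one]

/-! ### the numbers -/

theorem sq_sub (q j : ℕ) : q ^ (2 * j) - 1 = (q ^ j + 1) * (q ^ j - 1) := by
  rw [mul_comm 2 j, pow_mul]
  have := Nat.sq_sub_sq (q ^ j) 1
  rw [one_pow] at this
  exact this

theorem cop_six {r : ℕ} (hr : r.Prime) (h5 : 5 ≤ r) : Nat.Coprime r 6 := by
  rw [hr.coprime_iff_not_dvd]
  intro h
  have h2 : r ∣ 2 * 3 := h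
  rcases hr.dvd_mul.1 h2 with h3 | h3
  · have := Nat.le_of_dvd (by norm_num) h3; omega
  · have := Nat.le_of_dvd (by norm_num) h3; omega

/-- a primitive prime divisor which is at least 5 -/
theorem exists_five {q s : ℕ} (hq : 2 ≤ q) (hs : 3 ≤ s) (h6 : ¬ (q = 2 ∧ s = 6)) :
    ∃ r, r.Prime ∧ 5 ≤ r ∧ ∀ m, r ∣ q ^ m - 1 ↔ s ∣ m := by
  obtain ⟨r, hr, hiff, hdr, -⟩ := Cfsg.Agent.Lib.Zsigmondy.exists_primitive hq (n := s) (by omega) (by omega) h6
  refine ⟨r, hr, ?_, hiff⟩
  have h1 := hr.two_le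
  rcases Nat.lt_or_ge (r - 1) 1 with h | h
  · omega
  have h2 := Nat.le_of_dvd h hdr
  rcases Nat.lt_or_ge r 5 with h3 | h3
  · have h4 : r = 4 := by omega
    rw [h4] at hr
    exact absurd hr (by norm_num)
  · exact h3

/-- `q² - 1` has a prime divisor `≥ 5` -/
theorem exists_five_sq {q : ℕ} (hq : IsPrimePow q) (hodd : Odd q) (h3 : q ≠ 3) (h5 : q ≠ 5) (h7 : q ≠ 7) (h17 : q ≠ 17) :
    ∃ r, r.Prime ∧ 5 ≤ r ∧ r ∣ q ^ 2 - 1 := by
  by_contra hcon
  push Not at hcon
  obtain ⟨p, f, hp, hf, hpf⟩ := (isPrimePow_nat_iff q).1 hq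
  have hq2 := hq.two_le
  have hne : q ^ 2 - 1 ≠ 0 := by
    have : 2 ^ 2 ≤ q ^ 2 := Nat.pow_le_pow_left hq2 2
    omega
  have hsub : (q * (q ^ 2 - 1)).primeFactors ⊆ {2, 3, p} := by
    intro r hr
    rw [Nat.mem_primeFactors] at hr
    obtain ⟨hr, hd, -⟩ := hr
    simp only [Finset.mem_insert, Finset.mem_singleton]
    rcases hr.dvd_mul.1 hd with h | h
    · rw [← hpf] at h
      exact Or.inr (Or.inr ((Nat.prime_dvd_prime_iff_eq hr hp).1 (hr.dvd_of_dvd_pow h)))
    · rcases Nat.lt_or_ge r 5 with h1 | h1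
      · have h2 := hr.two_le
        have h3' : r ≠ 4 := by rintro rfl; exact absurd hr (by norm_num)
        omega
      · exact absurd h (hcon r hr h1)
  have hc : (q * (q ^ 2 - 1)).primeFactors.card ≤ 3 := (Finset.card_le_card hsub).trans Finset.card_le_three
  rcases Cfsg.Agent.H436.lTwo_three hq hc with h | h | h | h | h | h | h | h
  · rw [h] at hodd; exact absurd hodd (by decide)
  · exact h3 h
  · rw [h] at hodd; exact absurd hodd (by decide)
  · exact h5 h
  · exact h7 h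
  · rw [h] at hodd; exact absurd hodd (by decide)
  · refine hcon 5 Nat.prime_five le_rfl ?_
    rw [h]; norm_num
  · exact h17 h

/-- **`s` odd** -/
theorem xi_odd (F : Type) [Field F] [Finite F] {s : ℕ} (hs : 3 ≤ s) (ho : Odd s) :
    ∃ r : ℕ, r.Prime ∧ Nat.Coprime r 6 ∧ ∃ (K : Type) (_ : Field K) (_ : Algebra F K) (_ : FiniteDimensional F K) (ξ : K),
      (ξ ≠ 0 ∧ Module.finrank F K = s ∧ (minpoly F ξ).natDegree = s ∧ aeval ξ⁻¹ (minpoly F ξ) ≠ 0 ∧
        aeval ξ (minpoly F ξ⁻¹) ≠ 0) ∧ ξ ^ r = 1 := by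
  have hq : 2 ≤ Nat.card F := Finite.one_lt_card
  obtain ⟨r, hr, h5, hiff⟩ := exists_five hq hs (by rintro ⟨-, h⟩; rw [h] at ho; exact absurd ho (by decide))
  refine ⟨r, hr, cop_six hr h5, xi_of F (by omega) ((hiff s).2 dvd_rfl) (fun k hk hks h => ?_) fun j hj h => ?_⟩
  · have := Nat.le_of_dvd hk ((hiff k).1 h)
    omega
  · have h1 : r ∣ Nat.card F ^ (2 * j) - 1 := by
      rw [sq_sub]
      exact h.mul_right _
    have h2 : s ∣ j := (Nat.Coprime.dvd_mul_left ((Nat.coprime_two_right).2 ho)).1 ((hiff _).1 h1)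
    rcases Nat.eq_zero_or_pos j with h0 | h0
    · rw [h0, pow_zero] at h
      have := Nat.le_of_dvd (by norm_num) h
      omega
    · have := Nat.le_of_dvd h0 h2
      omega

/-- **`4 ∣ s`, `q` odd** -/
theorem xi_four (F : Type) [Field F] [Finite F] {s : ℕ} (hs : 4 ∣ s) (hs0 : 0 < s) (hodd : Odd (Nat.card F))
    (hne : s = 4 → Nat.card F ≠ 3 ∧ Nat.card F ≠ 5 ∧ Nat.card F ≠ 7 ∧ Nat.card F ≠ 17) :
    ∃ N : ℕ, Nat.Coprime N 6 ∧ ∃ (K : Type) (_ : Field K) (_ : Algebra F K) (_ : FiniteDimensional F K) (ξ : K),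
      (ξ ≠ 0 ∧ Module.finrank F K = s ∧ (minpoly F ξ).natDegree = s ∧ aeval ξ⁻¹ (minpoly F ξ) ≠ 0 ∧
        aeval ξ (minpoly F ξ⁻¹) ≠ 0) ∧ ξ ^ N = 1 := by
  have hq : 2 ≤ Nat.card F := Finite.one_lt_card
  obtain ⟨a, rfl⟩ := hs
  have hq2 : Nat.card F ≠ 2 := by intro h; rw [h] at hodd; exact absurd hodd (by decide)
  obtain ⟨r₁, hr₁, h5, hiff⟩ := exists_five hq (show 3 ≤ 4 * a by omega) (by rintro ⟨h, -⟩; exact hq2 h)
  -- the second prime
  obtain ⟨r₂, hr₂, h5', hd₂⟩ : ∃ r, r.Prime ∧ 5 ≤ r ∧ r ∣ Nat.card F ^ (2 * a) - 1 := by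
    rcases Nat.lt_or_ge a 2 with h1 | h1
    · have ha : a = 1 := by omega
      subst ha
      obtain ⟨a1, a2, a3, a4⟩ := hne rfl
      have hpp : IsPrimePow (Nat.card F) := by
        have := Fintype.ofFinite F
        rw [Nat.card_eq_fintype_card]
        exact FiniteField.isPrimePow_card F
      exact exists_five_sq hpp hodd a1 a2 a3 a4
    · obtain ⟨r, hr, h6, h7⟩ := exists_five hq (show 3 ≤ 2 * a by omega) (by rintro ⟨h, -⟩; exact hq2 h)
      exact ⟨r, hr, h6, (h7 _).2 dvd_rfl⟩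
  have hne12 : r₁ ≠ r₂ := by
    rintro rfl
    have := Nat.le_of_dvd (by omega) ((hiff _).1 hd₂)
    omega
  have hcop : Nat.Coprime r₁ r₂ := (Nat.coprime_primes hr₁ hr₂).2 hne12
  have hd₂' : r₂ ∣ Nat.card F ^ (4 * a) - 1 := by
    rw [show 4 * a = 2 * (2 * a) by ring, sq_sub]
    exact hd₂.mul_left _
  refine ⟨r₁ * r₂, Nat.Coprime.mul_left (cop_six hr₁ h5) (cop_six hr₂ h5'),
    xi_of F (by omega) (hcop.mul_dvd_of_dvd_of_dvd ((hiff _).2 dvd_rfl) hd₂') (fun k hk hks h => ?_) fun j hj h => ?_⟩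
  · have := Nat.le_of_dvd hk ((hiff k).1 ((dvd_mul_right _ _).trans h))
    omega
  · have h0 : r₁ ∣ Nat.card F ^ j + 1 := (dvd_mul_right _ _).trans h
    have h1 : r₁ ∣ Nat.card F ^ (2 * j) - 1 := by
      rw [sq_sub]
      exact h0.mul_right _
    obtain ⟨b, hb⟩ := (hiff _).1 h1
    rcases Nat.eq_zero_or_pos j with hj0 | hj0
    · rw [hj0, pow_zero] at h0
      have := Nat.le_of_dvd (by norm_num) h0
      omega
    · have hb1 : b = 1 := by
        have hb0 : b ≠ 0 := by rintro rfl; omega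
        have hb2 : b < 2 := by
          by_contra hb2
          have : 4 * a * 2 ≤ 4 * a * b := Nat.mul_le_mul_left _ (by omega)
          omega
        omega
      have hj2 : j = 2 * a := by rw [hb1] at hb; omega
      have h2 : r₂ ∣ Nat.card F ^ (2 * a) + 1 := by
        rw [← hj2]
        exact (dvd_mul_left _ _).trans h
      have h3 : r₂ ∣ 2 := by
        have h4 := Nat.dvd_sub h2 hd₂
        have h5 : 1 ≤ Nat.card F ^ (2 * a) := Nat.one_le_pow _ _ (by omega)
        have h6 : Nat.card F ^ (2 * a) + 1 - (Nat.card F ^ (2 * a) - 1) = 2 := by omega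
        rwa [h6] at h4
      have := Nat.le_of_dvd (by norm_num) h3
      omega

end Cfsg.Agent.H311.TC6
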