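import Cfsg.Agent.H311.TC6.GFx
import Cfsg.Agent.H781.TC6.Def

/-!
# S2464 for `Ω_(2n+1)(q)`, `q` odd: box GF (helper311)
-/

set_option autoImplicit false

namespace Cfsg.Agent.H311.TC6

open Polynomial Cfsg.Agent.H781.TC6

/-- **Box GF.** -/
theorem exists_gf {F : Type*} [Field F] [Fintype F] (hodd : Odd (Fintype.card F)) {n : ℕ} (hn : 3 ≤ n)
    (h4 : n = 4 → ∃ k, 2 ≤ k ∧ Fintype.card F = 3 ^ k) : ∃ (N : ℕ) (f : F[X]), N.Coprime 6 ∧ GF n N f := by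
  obtain ⟨N, r₁, f, h1, -, h2, h3, h5, h6, h7, m1, m2, m3, m4, m5, m6⟩ :=
    exists_pf F (by rw [Nat.card_eq_fintype_card]; exact hodd) hn (by rw [Nat.card_eq_fintype_card]; exact h4)
  have h0 : f.coeff 0 ≠ 0 := by
    intro h
    rw [h, mul_zero] at m6
    exact zero_ne_one m6
  exact ⟨N, f, h1, m1, m2, m3, m4, (m5 N).2 dvd_rfl, m6,
    fun A c hA => ex_of m1 m2 m3 hn m5 h0 h2 h3 h5 h6 h7 A c hA,
    fun A hA => nsq_of (by rw [Nat.card_eq_fintype_card]; exact hodd) m1 m2 m3 (by omega) hA⟩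

end Cfsg.Agent.H311.TC6
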