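import Cfsg.Agent.H311.TC6.Pf

/-!
# S2464 for `Ω_(2n+1)(q)`, `q` odd: the two matrix fields of box GF (helper311)
-/

set_option autoImplicit false

namespace Cfsg.Agent.H311.TC6

open Polynomial Cfsg.Agent.H126.PwO

/-- matrices over the field generated by a root -/
theorem exists_hom {F R : Type*} [Field F] [Ring R] [Algebra F R] {f : F[X]} {A : R} (h : aeval A f = 0) :
    ∃ φ : AdjoinRoot f →ₐ[F] R, φ (AdjoinRoot.root f) = A := by
  refine ⟨Ideal.Quotient.liftₐ (Ideal.span {f}) (aeval A) fun a ha => ?_, ?_⟩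
  · obtain ⟨b, rfl⟩ := Ideal.mem_span_singleton'.1 ha
    rw [map_mul, h, mul_zero]
  · show aeval A (X : F[X]) = A
    rw [aeval_X]

section ex

variable {F : Type*} [Field F] [Finite F] {n N : ℕ} {f : F[X]}

/-- a relation between a root and its inverse -/
theorem dvd_of_ex (hm : f.Monic) (hi : Irreducible f) (hd : f.natDegree = n) (hn : 0 < n)
    (hdvd : ∀ k, f ∣ X ^ k - 1 ↔ N ∣ k) (h0 : f.coeff 0 ≠ 0) {A : Matrix (Fin n) (Fin n) F} {c : F} (hA : A.charpoly = f)
    (hc : (c • A⁻¹).charpoly = f) : ∃ i, i < n ∧ N ∣ (Nat.card F ^ i + 1) * (Nat.card F - 1) := by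
  have := Fact.mk hi
  have : NeZero n := ⟨by omega⟩
  have hA0 : aeval A f = 0 := by rw [← hA]; exact Matrix.aeval_self_charpoly A
  have hfin : FiniteDimensional F (AdjoinRoot f) := (AdjoinRoot.powerBasis' hm).finite
  have hrank : Module.finrank F (AdjoinRoot f) = n := by
    rw [(AdjoinRoot.powerBasis' hm).finrank, AdjoinRoot.powerBasis'_dim, hd]
  obtain ⟨φ, hφ⟩ := exists_hom hA0
  have hinj : Function.Injective φ := RingHom.injective φ.toRingHom
  set α := AdjoinRoot.root f with hα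
  have hα0 : α ≠ 0 := by
    intro h1
    have h4 : aeval α f = 0 := by rw [hα, AdjoinRoot.aeval_eq, AdjoinRoot.mk_self]
    rw [h1, ← coeff_zero_eq_aeval_zero'] at h4
    exact h0 ((map_eq_zero (algebraMap F (AdjoinRoot f))).1 h4)
  have hAi : φ α⁻¹ = A⁻¹ := by
    symm
    apply Matrix.inv_eq_right_inv
    rw [← hφ, ← map_mul, mul_inv_cancel₀ hα0, map_one]
  have hroot : aeval (algebraMap F (AdjoinRoot f) c * α⁻¹) f = 0 := by
    apply hinj
    rw [map_zero, ← Polynomial.aeval_algHom_apply, map_mul, hAi, AlgHom.commutes, ← Algebra.smul_def]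
    rw [← hc]
    exact Matrix.aeval_self_charpoly _
  have hmin1 : minpoly F α = f := by
    rw [hα, AdjoinRoot.minpoly_root hi.ne_zero, hm.leadingCoeff, inv_one, C_1, mul_one]
  have hmin2 : f = minpoly F (algebraMap F (AdjoinRoot f) c * α⁻¹) :=
    minpoly.eq_of_irreducible_of_monic hi hroot hm
  obtain ⟨i, hi', hi2⟩ := Cfsg.Agent.H143.War.conj_pow (F := F) (a := algebraMap F (AdjoinRoot f) c * α⁻¹) (b := α) (by
    show minpoly F _ = minpoly F _
    rw [← hmin2, hmin1])
  rw [hrank] at hi'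
  refine ⟨i, hi', (hdvd _).1 ?_⟩
  have h1 : α ^ (Nat.card F ^ i + 1) = algebraMap F (AdjoinRoot f) c := by
    rw [pow_succ, hi2, mul_assoc, inv_mul_cancel₀ hα0, mul_one]
  have hc0 : c ≠ 0 := by
    rintro rfl
    rw [map_zero] at h1
    exact pow_ne_zero _ hα0 h1
  have h2 : c ^ (Nat.card F - 1) = 1 := by
    have := Fintype.ofFinite F
    rw [Nat.card_eq_fintype_card]
    exact FiniteField.pow_card_sub_one_eq_one c hc0
  have h3 : α ^ ((Nat.card F ^ i + 1) * (Nat.card F - 1)) = 1 := by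
    rw [pow_mul, h1, ← map_pow, h2, map_one]
  have h4 : aeval α (X ^ ((Nat.card F ^ i + 1) * (Nat.card F - 1)) - 1 : F[X]) = 0 := by
    rw [map_sub, map_pow, aeval_X, map_one, h3, sub_self]
  rw [← hmin1]
  exact minpoly.dvd F α h4

/-- **the field `ex`** -/
theorem ex_of (hm : f.Monic) (hi : Irreducible f) (hd : f.natDegree = n) (hn : 3 ≤ n)
    (hdvd : ∀ k, f ∣ X ^ k - 1 ↔ N ∣ k) (h0 : f.coeff 0 ≠ 0) {r₁ : ℕ} (hr₁ : r₁.Prime) (h5 : 5 ≤ r₁) (hrN : r₁ ∣ N)
    (hiff : ∀ m, r₁ ∣ Nat.card F ^ m - 1 ↔ n ∣ m)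
    (hor : Odd n ∨ ∃ r₂, r₂.Prime ∧ 5 ≤ r₂ ∧ r₂ ∣ N ∧ Even n ∧ r₂ ∣ Nat.card F ^ (n / 2) - 1 ∧ ¬ r₂ ∣ Nat.card F - 1)
    (A : Matrix (Fin n) (Fin n) F) (c : F) (hA : A.charpoly = f) : (c • A⁻¹).charpoly ≠ f := by
  intro hc
  obtain ⟨i, hin, hNi⟩ := dvd_of_ex hm hi hd (by omega) hdvd h0 hA hc
  have h1 : r₁ ∣ Nat.card F ^ i + 1 := by
    rcases hr₁.dvd_mul.1 (hrN.trans hNi) with h | h
    · exact h
    · exfalso
      have := Nat.le_of_dvd (by norm_num) ((hiff 1).1 (by rwa [pow_one]))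
      omega
  obtain ⟨hi0, hni⟩ := not_dvd_add h5 hiff hin h1
  rcases hor with ho | ⟨r₂, hr₂, h5', hr2N, -, hd2, hd2'⟩
  · rw [hni] at ho
    exact (Nat.not_odd_iff_even.2 (even_two_mul i)) ho
  · rw [hni, Nat.mul_div_cancel_left i (by norm_num)] at hd2
    have h2 : r₂ ∣ Nat.card F ^ i + 1 := by
      rcases hr₂.dvd_mul.1 (hr2N.trans hNi) with h | h
      · exact h
      · exact absurd h hd2'
    have h3 : r₂ ∣ 2 := by
      have h4 := Nat.dvd_sub h2 hd2
      have h5 : 1 ≤ Nat.card F ^ i := Nat.one_le_pow _ _ Nat.card_pos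
      have h6 : Nat.card F ^ i + 1 - (Nat.card F ^ i - 1) = 2 := by omega
      rwa [h6] at h4
    have := Nat.le_of_dvd (by norm_num) h3
    omega

end ex

section nsq

theorem prod_univ {K : Type*} [Field K] [Fintype K] :
    ∏ a : K, (X - C a : K[X]) = X ^ Fintype.card K - X := by
  have hq : 1 < Fintype.card K := Fintype.one_lt_card
  have hr := FiniteField.roots_X_pow_card_sub_X K
  have hdeg := FiniteField.X_pow_card_sub_X_natDegree_eq K hq
  have hmon : (X ^ Fintype.card K - X : K[X]).Monic := by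
    apply monic_X_pow_sub
    rw [degree_X]
    exact_mod_cast hq
  have h := prod_multiset_X_sub_C_of_monic_of_roots_card_eq hmon (by
    rw [hr, hdeg]
    exact Finset.card_univ)
  rw [hr] at h
  exact h

variable {F : Type*} [Field F] [Finite F] {n : ℕ} {f : F[X]}

/-- **the field `nsq`** -/
theorem nsq_of (hodd : Odd (Nat.card F)) (hm : f.Monic) (hi : Irreducible f) (hd : f.natDegree = n) (hn : 0 < n)
    {A : Matrix (Fin n) (Fin n) F} (hA : A.charpoly = f) :
    ∃ Z : GL (Fin n) F, (Z : Matrix (Fin n) (Fin n) F) * A = A * (Z : Matrix (Fin n) (Fin n) F) ∧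
      ¬ IsSquare (Z : Matrix (Fin n) (Fin n) F).det := by
  have := Fact.mk hi
  have : NeZero n := ⟨by omega⟩
  have hq : 1 < Nat.card F := Finite.one_lt_card
  have hpow : 1 < Nat.card F ^ n := Nat.one_lt_pow (by omega) hq
  have hA0 : aeval A f = 0 := by rw [← hA]; exact Matrix.aeval_self_charpoly A
  have hfin : FiniteDimensional F (AdjoinRoot f) := (AdjoinRoot.powerBasis' hm).finite
  have hrank : Module.finrank F (AdjoinRoot f) = n := by
    rw [(AdjoinRoot.powerBasis' hm).finrank, AdjoinRoot.powerBasis'_dim, hd]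
  have hfK : Finite (AdjoinRoot f) := Module.finite_of_finite F
  have hcard : Nat.card (AdjoinRoot f) = Nat.card F ^ n := by
    rw [Module.natCard_eq_pow_finrank (K := F) (V := AdjoinRoot f), hrank]
  obtain ⟨φ, hφ⟩ := exists_hom hA0
  have hinj : Function.Injective φ := RingHom.injective φ.toRingHom
  -- a polynomial of maximal order
  obtain ⟨g, hg⟩ := exists_pol F (s := Nat.card F ^ n - 1) (d := n) (by omega) dvd_rfl (fun k hk hkn h => by
    have h1 := Nat.one_lt_pow (by omega : k ≠ 0) hq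
    have h2 := Nat.le_of_dvd (by omega) h
    have h3 := Nat.pow_lt_pow_right hq hkn
    omega)
  -- a root of `g`
  obtain ⟨z, hz⟩ : ∃ z : AdjoinRoot f, aeval z g = 0 := by
    have := Fintype.ofFinite (AdjoinRoot f)
    have h1 : g ∣ X ^ (Nat.card F ^ n - 1) - 1 := (hg.dvd _).2 dvd_rfl
    have h2 : g ∣ X ^ (Fintype.card (AdjoinRoot f)) - X := by
      rw [← Nat.card_eq_fintype_card, hcard]
      have h3 : (X : F[X]) ^ (Nat.card F ^ n) - X = X * (X ^ (Nat.card F ^ n - 1) - 1) := by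
        rw [mul_sub, mul_one, ← pow_succ', Nat.sub_add_cancel hpow.le]
      rw [h3]
      exact h1.mul_left _
    have h3 : g.map (algebraMap F (AdjoinRoot f)) ∣ ∏ a : AdjoinRoot f, (X - C a) := by
      rw [prod_univ]
      have h4 := Polynomial.map_dvd (algebraMap F (AdjoinRoot f)) h2
      rwa [Polynomial.map_sub, Polynomial.map_pow, map_X] at h4
    by_contra hno
    push Not at hno
    have h4 : IsCoprime (g.map (algebraMap F (AdjoinRoot f))) (∏ a : AdjoinRoot f, (X - C a)) := by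
      refine IsCoprime.prod_right fun a _ => ?_
      refine IsCoprime.symm ?_
      rw [(irreducible_X_sub_C a).coprime_iff_not_dvd, dvd_iff_isRoot, IsRoot.def, eval_map_algebraMap]
      exact hno a
    have h5 := h4.isUnit_of_dvd' dvd_rfl h3
    have h6 := natDegree_eq_zero_of_isUnit h5
    rw [natDegree_map, hg.deg] at h6
    omega
  have hZg : aeval (φ z) g = 0 := by
    rw [Polynomial.aeval_algHom_apply, hz, map_zero]
  have hmin : g = minpoly F (φ z) := minpoly.eq_of_irreducible_of_monic hg.irr hZg hg.monic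
  have hchar : (φ z).charpoly = g := by
    refine Polynomial.eq_of_monic_of_dvd_of_natDegree_le hg.monic (Matrix.charpoly_monic _) ?_ ?_
    · rw [hmin]
      exact Matrix.minpoly_dvd_charpoly _
    · rw [Matrix.charpoly_natDegree_eq_dim, Fintype.card_fin, hg.deg]
  have hdet : (φ z).det = (-1) ^ n * g.coeff 0 := by
    rw [Matrix.det_eq_sign_charpoly_coeff, hchar, Fintype.card_fin]
  have hq1 : 0 < Nat.card F - 1 := by omega
  have hM : (Nat.card F - 1) * ((Nat.card F ^ n - 1) / (Nat.card F - 1)) = Nat.card F ^ n - 1 :=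
    Nat.mul_div_cancel' (by simpa using Nat.sub_dvd_pow_sub_pow (Nat.card F) 1 n)
  have hdet0 : (φ z).det ≠ 0 := by
    intro h0
    have h1 := (hg.coef (Nat.card F - 1)).2 (by rw [mul_comm, hM])
    rw [← hdet, h0, zero_pow (by omega)] at h1
    exact zero_ne_one h1
  refine ⟨Matrix.GeneralLinearGroup.mkOfDetNeZero (φ z) hdet0, ?_, ?_⟩
  · show φ z * A = A * φ z
    rw [← hφ, ← map_mul, ← map_mul, mul_comm]
  · show ¬ IsSquare (φ z).det
    rintro ⟨a, ha⟩
    obtain ⟨b, hb⟩ := hodd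
    have ha0 : a ≠ 0 := by
      rintro rfl
      exact hdet0 (by rw [ha, zero_mul])
    have h1 : (φ z).det ^ b = 1 := by
      rw [ha, ← pow_two, ← pow_mul]
      have := Fintype.ofFinite F
      have h2 := FiniteField.pow_card_sub_one_eq_one a ha0
      rw [← Nat.card_eq_fintype_card, hb, Nat.add_sub_cancel] at h2
      exact h2
    rw [hdet, hg.coef] at h1
    obtain ⟨t, ht⟩ : ∃ t, t = (Nat.card F ^ n - 1) / (Nat.card F - 1) := ⟨_, rfl⟩
    rw [← ht] at hM h1
    have h3 : 2 * (t * b) = Nat.card F ^ n - 1 := by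
      have h4 : Nat.card F - 1 = 2 * b := by omega
      rw [← hM, h4]
      ring
    have h5 := Nat.le_of_dvd (by omega) h1
    omega

end nsq

end Cfsg.Agent.H311.TC6
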