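import Cfsg.Agent.H126.PwO.Fld
import Cfsg.Agent.H311.TC6.Xi

/-!
# S2464 for `Ω_(2n+1)(q)`, `q` odd: the polynomial of box GF (helper311)

* `pf_of` : a polynomial with a root of order `N`;
* `exists_pf` : `N` prime to 6, `N = r₁` (`n` odd), `N = r₁ r₂` (`n` even).
-/

set_option autoImplicit false

namespace Cfsg.Agent.H311.TC6

open Polynomial Cfsg.Agent.H126.PwO

/-- a polynomial with a root of order `N` and norm `1` -/
theorem pf_of (F : Type*) [Field F] [Finite F] {n N : ℕ} (hn : 1 ≤ n) (hN : N ∣ Nat.card F ^ n - 1)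
    (h1 : ∀ k, 0 < k → k < n → ¬ N ∣ Nat.card F ^ k - 1) (h2 : ∀ j, j < n → ¬ N ∣ Nat.card F ^ j + 1)
    (h3 : Nat.Coprime N (Nat.card F - 1)) :
    ∃ f : F[X], f.Monic ∧ Irreducible f ∧ f.natDegree = n ∧ IsCoprime f f.reverse ∧
      (∀ k, f ∣ X ^ k - 1 ↔ N ∣ k) ∧ (-1) ^ n * f.coeff 0 = 1 := by
  obtain ⟨f, hf⟩ := exists_pol F hn hN h1
  refine ⟨f, hf.monic, hf.irr, hf.deg, hf.cop h2, hf.dvd, ?_⟩
  have h4 : Nat.card F - 1 ∣ Nat.card F ^ n - 1 := by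
    simpa using Nat.sub_dvd_pow_sub_pow (Nat.card F) 1 n
  have h5 : N ∣ (Nat.card F ^ n - 1) / (Nat.card F - 1) * 1 := by
    rw [mul_one]
    have h6 : (Nat.card F - 1) * ((Nat.card F ^ n - 1) / (Nat.card F - 1)) = Nat.card F ^ n - 1 :=
      Nat.mul_div_cancel' h4
    rw [← h6] at hN
    exact h3.dvd_of_dvd_mul_left hN
  have := (hf.coef 1).2 h5
  rwa [pow_one] at this

theorem not_dvd_add {q n r j : ℕ} (hr5 : 5 ≤ r) (hiff : ∀ m, r ∣ q ^ m - 1 ↔ n ∣ m) (hj : j < n) (h : r ∣ q ^ j + 1) :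
    0 < j ∧ n = 2 * j := by
  have h1 : r ∣ q ^ (2 * j) - 1 := by
    rw [sq_sub]
    exact h.mul_right _
  obtain ⟨b, hb⟩ := (hiff _).1 h1
  rcases Nat.eq_zero_or_pos j with h0 | h0
  · rw [h0, pow_zero] at h
    have := Nat.le_of_dvd (by norm_num) h
    omega
  · refine ⟨h0, ?_⟩
    have hb0 : b ≠ 0 := by rintro rfl; omega
    have hb2 : b < 2 := by
      by_contra hb2
      have : n * 2 ≤ n * b := Nat.mul_le_mul_left _ (by omega)
      omega
    have hb1 : b = 1 := by omega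
    rw [hb1] at hb
    omega

/-- **The polynomial of box GF.** -/
theorem exists_pf (F : Type*) [Field F] [Finite F] (hodd : Odd (Nat.card F)) {n : ℕ} (hn : 3 ≤ n)
    (h4 : n = 4 → ∃ k, 2 ≤ k ∧ Nat.card F = 3 ^ k) :
    ∃ (N r₁ : ℕ) (f : F[X]), N.Coprime 6 ∧ 0 < N ∧ r₁.Prime ∧ 5 ≤ r₁ ∧ r₁ ∣ N ∧
      (∀ m, r₁ ∣ Nat.card F ^ m - 1 ↔ n ∣ m) ∧
      (Odd n ∨ ∃ r₂, r₂.Prime ∧ 5 ≤ r₂ ∧ r₂ ∣ N ∧ Even n ∧ r₂ ∣ Nat.card F ^ (n / 2) - 1 ∧ ¬ r₂ ∣ Nat.card F - 1) ∧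
      f.Monic ∧ Irreducible f ∧ f.natDegree = n ∧ IsCoprime f f.reverse ∧
      (∀ k, f ∣ X ^ k - 1 ↔ N ∣ k) ∧ (-1) ^ n * f.coeff 0 = 1 := by
  have hq : 2 ≤ Nat.card F := Finite.one_lt_card
  have hq2 : Nat.card F ≠ 2 := by intro h; rw [h] at hodd; exact absurd hodd (by decide)
  obtain ⟨r₁, hr₁, h5, hiff⟩ := exists_five hq hn (by rintro ⟨h, -⟩; exact hq2 h)
  have hr₁q : ¬ r₁ ∣ Nat.card F - 1 := by
    intro h
    have := Nat.le_of_dvd (by norm_num) ((hiff 1).1 (by rwa [pow_one]))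
    omega
  rcases Nat.even_or_odd n with hev | hon
  · obtain ⟨a, ha⟩ := hev
    have hna : n = 2 * a := by omega
    subst hna
    -- the second prime
    obtain ⟨r₂, hr₂, h5', hd₂, hd₂'⟩ : ∃ r, r.Prime ∧ 5 ≤ r ∧ r ∣ Nat.card F ^ a - 1 ∧ ¬ r ∣ Nat.card F - 1 := by
      rcases Nat.lt_or_ge a 3 with h1 | h1
      · have ha2 : a = 2 := by omega
        subst ha2
        obtain ⟨k, hk, hk'⟩ := h4 rfl
        obtain ⟨r, hr, h6, h7⟩ := exists_five (q := 3) (s := 2 * k) (by norm_num) (by omega) (by rintro ⟨h, -⟩; omega)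
        refine ⟨r, hr, h6, ?_, ?_⟩
        · rw [hk', ← pow_mul, mul_comm k 2]
          exact (h7 _).2 dvd_rfl
        · rw [hk']
          intro h
          have := Nat.le_of_dvd (by omega) ((h7 _).1 h)
          omega
      · obtain ⟨r, hr, h6, h7⟩ := exists_five hq h1 (by rintro ⟨h, -⟩; exact hq2 h)
        refine ⟨r, hr, h6, (h7 _).2 dvd_rfl, fun h => ?_⟩
        have := Nat.le_of_dvd (by norm_num) ((h7 1).1 (by rwa [pow_one]))
        omega
    have hne12 : r₁ ≠ r₂ := by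
      rintro rfl
      have := Nat.le_of_dvd (by omega) ((hiff _).1 hd₂)
      omega
    have hcop : Nat.Coprime r₁ r₂ := (Nat.coprime_primes hr₁ hr₂).2 hne12
    have hd₃ : r₂ ∣ Nat.card F ^ (2 * a) - 1 := by
      rw [sq_sub]
      exact hd₂.mul_left _
    obtain ⟨f, f1, f2, f3, f4, f5, f6⟩ := pf_of F (n := 2 * a) (N := r₁ * r₂) (by omega)
      (hcop.mul_dvd_of_dvd_of_dvd ((hiff _).2 dvd_rfl) hd₃)
      (fun k hk hks h => by
        have := Nat.le_of_dvd hk ((hiff k).1 ((dvd_mul_right _ _).trans h))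
        omega)
      (fun j hj h => by
        obtain ⟨-, hj2⟩ := not_dvd_add h5 hiff hj ((dvd_mul_right _ _).trans h)
        have hja : j = a := by omega
        rw [hja] at h
        have h2 : r₂ ∣ Nat.card F ^ a + 1 := (dvd_mul_left _ _).trans h
        have h3 : r₂ ∣ 2 := by
          have h4 := Nat.dvd_sub h2 hd₂
          have h5 : 1 ≤ Nat.card F ^ a := Nat.one_le_pow _ _ (by omega)
          have h6 : Nat.card F ^ a + 1 - (Nat.card F ^ a - 1) = 2 := by omega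
          rwa [h6] at h4
        have := Nat.le_of_dvd (by norm_num) h3
        omega)
      (Nat.Coprime.mul_left ((hr₁.coprime_iff_not_dvd).2 hr₁q) ((hr₂.coprime_iff_not_dvd).2 hd₂'))
    refine ⟨r₁ * r₂, r₁, f, Nat.Coprime.mul_left (cop_six hr₁ h5) (cop_six hr₂ h5'), by positivity, hr₁, h5,
      dvd_mul_right _ _, hiff, Or.inr ⟨r₂, hr₂, h5', dvd_mul_left _ _, even_two_mul a, ?_, hd₂'⟩, f1, f2, f3, f4, f5, f6⟩
    rw [Nat.mul_div_cancel_left a (by norm_num)]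
    exact hd₂
  · obtain ⟨f, f1, f2, f3, f4, f5, f6⟩ := pf_of F (n := n) (N := r₁) (by omega) ((hiff _).2 dvd_rfl)
      (fun k hk hks h => by
        have := Nat.le_of_dvd hk ((hiff k).1 h)
        omega)
      (fun j hj h => by
        obtain ⟨-, hj2⟩ := not_dvd_add h5 hiff hj h
        rw [hj2] at hon
        exact (Nat.not_odd_iff_even.2 (even_two_mul j)) hon)
      ((hr₁.coprime_iff_not_dvd).2 hr₁q)
    exact ⟨r₁, r₁, f, cop_six hr₁ h5, hr₁.pos, hr₁, h5, dvd_rfl, hiff, Or.inl hon, f1, f2, f3, f4, f5, f6⟩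

end Cfsg.Agent.H311.TC6
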